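import Groth.Agent.BlowUpLib.Cartier
import Groth.Agent.AmpleThLib.Ample
import Groth.Agent.AmpleFinGenLib.Divisor
import Groth.Agent.RGFlatLib.Compose
import Groth.Agent.BiratLib.Finite

/-!
# Fractional ideals given by finitely many elements of the function field
-/

set_option autoImplicit false
set_option linter.style.haveILetI false
set_option backward.isDefEq.respectTransparency false
set_option maxHeartbeats 1000000

universe u

open CategoryTheory CategoryTheory.Limits AlgebraicGeometry TopologicalSpace Opposite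

noncomputable section

namespace BirBlowLib

variable {X X' : Scheme.{u}} [IrreducibleSpace X'] (f : X' ⟶ X)

/-- Sections of `X` as elements of the function field of `X'`. -/
def psi (V : X.Opens) (h : genericPoint X' ∈ f ⁻¹ᵁ V) : Γ(X, V) →+* X'.functionField :=
  (X'.presheaf.germ (f ⁻¹ᵁ V) (genericPoint X') h).hom.comp (f.app V).hom

theorem germ_appLE (V : X.Opens) {O : X'.Opens} (e : O ≤ f ⁻¹ᵁ V) (hO : genericPoint X' ∈ O) (c : Γ(X, V)) :
    X'.presheaf.germ O (genericPoint X') hO (f.appLE V O e c) = psi f V (e hO) c := by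
  rw [Scheme.Hom.appLE, CommRingCat.comp_apply, TopCat.Presheaf.germ_res_apply]
  rfl

theorem psi_res {V W : X.Opens} (hWV : W ≤ V) (h : genericPoint X' ∈ f ⁻¹ᵁ W) (c : Γ(X, V)) :
    psi f W h (X.presheaf.map (homOfLE hWV).op c) = psi f V (f.preimage_mono hWV h) c := by
  change X'.presheaf.germ _ _ h (f.app W (X.presheaf.map (homOfLE hWV).op c)) = _
  rw [← CommRingCat.comp_apply (X.presheaf.map _), f.naturality, CommRingCat.comp_apply]
  exact TopCat.Presheaf.germ_res_apply _ _ _ _ _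

theorem psi_res' {V W : X.Opens} (hWV : W ≤ V) (h : genericPoint X' ∈ f ⁻¹ᵁ W) (c : Γ(X, V)) :
    psi f W h ((X.presheaf.map (homOfLE hWV).op).hom c) = psi f V (f.preimage_mono hWV h) c :=
  psi_res f hWV h c

variable [IsIntegral X] [IsIntegral X']

theorem psi_injective (hinj : ∀ V : X.Opens, Function.Injective (f.app V).hom) (V : X.Opens)
    (h : genericPoint X' ∈ f ⁻¹ᵁ V) : Function.Injective (psi f V h) :=
  (germ_injective_of_isIntegral X' (genericPoint X') h).comp (hinj V)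

theorem mem_of_nonempty {O : X'.Opens} {x : X'} (hx : x ∈ O) : genericPoint X' ∈ O :=
  ((genericPoint_spec X').mem_open_set_iff O.isOpen).mpr ⟨x, trivial, hx⟩

variable {n : ℕ} (a : Fin n → X'.functionField) (D : X.IdealSheafData)

/-- `D` consists of denominators of `a` over `V`. -/
def HasDen (V : X.affineOpens) : Prop :=
  ∀ (h : genericPoint X' ∈ f ⁻¹ᵁ V.1), ∀ d ∈ D.ideal V, ∀ k, ∃ c, psi f V.1 h c = a k * psi f V.1 h d

/-- The products of the `a k` with `D`. -/
def fracSet (V : X.affineOpens) : Set Γ(X, V.1) :=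
  {c | ∀ h : genericPoint X' ∈ f ⁻¹ᵁ V.1, ∃ k, ∃ d ∈ D.ideal V, psi f V.1 h c = a k * psi f V.1 h d}

variable {f a D}

theorem fracSpan_map (hinj : ∀ V : X.Opens, Function.Injective (f.app V).hom)
    (hdom : f (genericPoint X') = genericPoint X)
    (hden : ∀ V, HasDen f a D V) (V : X.affineOpens) (g : Γ(X, V.1)) :
    (Ideal.span (fracSet f a D V)).map (X.presheaf.map (homOfLE <| X.basicOpen_le g).op).hom =
      Ideal.span (fracSet f a D (X.affineBasicOpen g)) := by
  let r : Γ(X, V.1) →+* Γ(X, X.basicOpen g) := (X.presheaf.map (homOfLE <| X.basicOpen_le g).op).hom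
  show (Ideal.span (fracSet f a D V)).map r = _
  refine le_antisymm (Ideal.map_le_iff_le_comap.2 (Ideal.span_le.2 fun c hc => Ideal.subset_span fun h => ?_))
    (Ideal.span_le.2 fun (c : Γ(X, X.basicOpen g)) hc => ?_)
  · obtain ⟨k, d, hd, e⟩ := hc (f.preimage_mono (X.basicOpen_le g) h)
    refine ⟨k, r d, ?_, ?_⟩
    · rw [← D.map_ideal_basicOpen V g]
      exact Ideal.mem_map_of_mem _ hd
    · show psi f (X.basicOpen g) h (r c) = a k * psi f (X.basicOpen g) h (r d)
      rw [show r c = X.presheaf.map (homOfLE (X.basicOpen_le g)).op c from rfl,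
        show r d = X.presheaf.map (homOfLE (X.basicOpen_le g)).op d from rfl, psi_res, psi_res]
      exact e
  by_cases hne : genericPoint X' ∈ f ⁻¹ᵁ X.basicOpen g
  · obtain ⟨k, d, hd, e⟩ := hc hne
    letI := r.toAlgebra
    haveI : IsLocalization.Away g Γ(X, X.basicOpen g) := V.2.isLocalization_basicOpen g
    rw [← D.map_ideal_basicOpen V g] at hd
    obtain ⟨⟨⟨d₀, hd₀⟩, m⟩, hdm⟩ :=
      (IsLocalization.mem_map_algebraMap_iff (Submonoid.powers g) Γ(X, X.basicOpen g)).1
        (show d ∈ (D.ideal V).map (algebraMap Γ(X, V.1) Γ(X, X.basicOpen g)) from hd)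
    have hV := f.preimage_mono (X.basicOpen_le g) hne
    obtain ⟨c₀, hc₀⟩ := hden V hV d₀ hd₀ k
    have hmem : r c₀ ∈ (Ideal.span (fracSet f a D V)).map r :=
      Ideal.mem_map_of_mem _ (Ideal.subset_span fun _ => ⟨k, d₀, hd₀, hc₀⟩)
    have hu : IsUnit (r m.1) := IsLocalization.map_units Γ(X, X.basicOpen g) m
    have key : r c₀ = HMul.hMul (α := Γ(X, X.basicOpen g)) c (r m.1) := by
      refine psi_injective f hinj _ hne ?_
      have hdm' : r d₀ = HMul.hMul (α := Γ(X, X.basicOpen g)) d (r m.1) := hdm.symm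
      have hh : psi f (X.basicOpen g) hne (r c₀) = a k * psi f (X.basicOpen g) hne (r d₀) := by
        rw [show r c₀ = X.presheaf.map (homOfLE (X.basicOpen_le g)).op c₀ from rfl,
          show r d₀ = X.presheaf.map (homOfLE (X.basicOpen_le g)).op d₀ from rfl, psi_res, psi_res]
        exact hc₀
      rw [hh, hdm', map_mul, map_mul, ← mul_assoc]
      exact congrArg (· * _) e.symm
    exact (Ideal.mul_unit_mem_iff_mem _ hu).1 (key ▸ hmem)
  · have hbot : X.basicOpen g = ⊥ := by
      refine Opens.ext (Set.not_nonempty_iff_eq_empty.1 fun hn => hne ?_)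
      show f (genericPoint X') ∈ X.basicOpen g
      rw [hdom]
      exact ((genericPoint_spec X).mem_open_set_iff (X.basicOpen g).isOpen).mpr (by simpa using hn)
    haveI : Subsingleton Γ(X, X.basicOpen g) := by rw [hbot]; infer_instance
    rw [Subsingleton.elim c 0]
    exact zero_mem _

/-- The ideal sheaf generated by the products of the `a k` with `D`. -/
def fracIdeal (hinj : ∀ V : X.Opens, Function.Injective (f.app V).hom)
    (hdom : f (genericPoint X') = genericPoint X) (hden : ∀ V, HasDen f a D V) : X.IdealSheafData where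
  ideal V := Ideal.span (fracSet f a D V)
  map_ideal_basicOpen := fracSpan_map hinj hdom hden

theorem fracIdeal_eq_span (hinj : ∀ V : X.Opens, Function.Injective (f.app V).hom)
    (hdom : f (genericPoint X') = genericPoint X) (hden : ∀ V, HasDen f a D V) (V : X.affineOpens)
    (h : genericPoint X' ∈ f ⁻¹ᵁ V.1) (d : Γ(X, V.1)) (hd : D.ideal V = Ideal.span {d}) :
    ∃ c : Fin n → Γ(X, V.1), (∀ k, psi f V.1 h (c k) = a k * psi f V.1 h d) ∧
      (fracIdeal hinj hdom hden).ideal V = Ideal.span (Set.range c) := by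
  have hdm : d ∈ D.ideal V := hd ▸ Ideal.subset_span rfl
  choose c hc using hden V h d hdm
  refine ⟨c, hc, le_antisymm (Ideal.span_le.2 fun x hx => ?_) (Ideal.span_le.2 ?_)⟩
  · obtain ⟨k, d', hd', e⟩ := hx h
    obtain ⟨r, rfl⟩ := Ideal.mem_span_singleton'.1 (hd ▸ hd' : d' ∈ _)
    have : x = r * c k := by
      refine psi_injective f hinj _ h ?_
      rw [e, map_mul, map_mul, hc]
      ring
    rw [this]
    exact Ideal.mul_mem_left _ _ (Ideal.subset_span ⟨k, rfl⟩)
  · rintro _ ⟨k, rfl⟩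
    exact Ideal.subset_span fun _ => ⟨k, d, hdm, hc k⟩

/-- Denominators exist, in the form of an effective Cartier ideal, if the `a k` are regular on a
nonempty open and there is an ample module. -/
theorem exists_den [IsNoetherian X] {M : X.Modules} (hM : CohB1.IsAmple M)
    (hinj : ∀ V : X.Opens, Function.Injective (f.app V).hom) (hdom : f (genericPoint X') = genericPoint X)
    (W : X.Opens) (hW : genericPoint X' ∈ f ⁻¹ᵁ W) (α : Fin n → Γ(X, W)) (hα : ∀ k, psi f W hW (α k) = a k) :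
    ∃ D : X.IdealSheafData, BlowUp.IsEffCartierIdeal D ∧ ∀ V, HasDen f a D V := by
  classical
  have hηW : genericPoint X ∈ W := hdom ▸ hW
  obtain ⟨e₀, T, -, ⟨σ, hσ⟩, hηT, -, hTW⟩ := AmpleThLib.exists_locus_le (hL := hM.1) hM hηW
  subst hσ
  have hP := AmpleThLib.tensorPow_isInvertible hM.1 e₀
  let s : Coh.structureModule X ⟶ CohB1.tensorPow M e₀ := QCohLib.unitHom _ σ
  have hgen : CohB1.genLocus _ s = TwistLib.genSet hP σ := AmpleThLib.genLocus_unitHom hP σ
  -- charts of the zero scheme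
  have hch : ∀ x : X, ∃ (V : X.affineOpens) (c : Γ(X, V.1)), x ∈ V.1 ∧ c ∈ nonZeroDivisors Γ(X, V.1) ∧
      (PicF2.zeroScheme _ s).ideal V = Ideal.span {c} ∧ X.basicOpen c ≤ W := by
    intro x
    obtain ⟨U, e, hxU, he⟩ := TwistLib.exists_genOn hP x
    obtain ⟨V, hxV, hVU⟩ := BlowUpLib.exists_affine x hxU
    have hg := he.res hVU
    obtain ⟨c, hc⟩ := (hg V.1 le_rfl).2 (MeroLib.secOn s V.1)
    simp only [AmpleLib.res_refl] at hc
    have hI := MeroLib.zeroScheme_ideal_of_genOn hP s hg hc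
    have hc' := hc
    rw [AmpleFinGenLib.secOn_eq_res] at hc'
    have hb := AmpleThLib.mem_genSet_coeff hP (s.app ⊤ (1 : Γ(X, ⊤))) hg hc'
    have hsσ : TwistLib.genSet hP (s.app ⊤ (1 : Γ(X, ⊤))) = TwistLib.genSet hP σ :=
      (AmpleThLib.genLocus_hom hP s).symm.trans hgen
    rw [hsσ] at hb
    have hηV : genericPoint X ∈ V.1 :=
      ((genericPoint_spec X).mem_open_set_iff V.1.isOpen).mpr ⟨x, trivial, hxV⟩
    haveI : Nonempty V.1 := ⟨⟨_, hηV⟩⟩
    refine ⟨V, c, hxV, mem_nonZeroDivisors_of_ne_zero fun h0 => ?_, hI, ?_⟩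
    · have h1 : genericPoint X ∈ TwistLib.genSet hP σ ⊓ V.1 := ⟨hηT, hηV⟩
      rw [hb, h0, Scheme.basicOpen_zero] at h1
      exact h1
    · rw [← hb]
      exact inf_le_left.trans hTW
  choose V c hxV hcnz hcI hcW using hch
  obtain ⟨S, hS⟩ := isCompact_univ.elim_finite_subcover (fun x : X => ((V x).1 : Set X)) (fun x => (V x).1.isOpen)
    (fun x _ => Set.mem_iUnion.mpr ⟨x, hxV x⟩)
  -- clearing denominators
  have hclear : ∀ (x : X) (k : Fin n), ∃ (m : ℕ) (r : Γ(X, (V x).1)), ∀ h : genericPoint X' ∈ f ⁻¹ᵁ (V x).1,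
      psi f _ h r = a k * psi f _ h (c x) ^ m := by
    intro x k
    letI := (X.presheaf.map (homOfLE (X.basicOpen_le (c x))).op).hom.toAlgebra
    haveI : IsLocalization.Away (c x) Γ(X, X.basicOpen (c x)) := (V x).2.isLocalization_basicOpen (c x)
    obtain ⟨m, r, hr⟩ := IsLocalization.Away.surj (c x) (X.presheaf.map (homOfLE (hcW x)).op (α k))
    refine ⟨m, r, fun h => ?_⟩
    have hne : genericPoint X' ∈ f ⁻¹ᵁ X.basicOpen (c x) := by
      have hηV : genericPoint X ∈ (V x).1 :=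
        ((genericPoint_spec X).mem_open_set_iff (V x).1.isOpen).mpr ⟨x, trivial, hxV x⟩
      haveI : Nonempty (V x).1 := ⟨⟨_, hηV⟩⟩
      show f (genericPoint X') ∈ X.basicOpen (c x)
      rw [hdom]
      refine ((genericPoint_spec X).mem_open_set_iff (X.basicOpen (c x)).isOpen).mpr ?_
      rw [Set.univ_inter, Set.nonempty_iff_ne_empty]
      exact fun hb => nonZeroDivisors.ne_zero (hcnz x) ((basicOpen_eq_bot_iff (c x)).1 (Opens.ext hb))
    have hr' := congrArg (psi f _ hne) hr
    rw [map_mul, psi_res, hα, map_pow, RingHom.algebraMap_toAlgebra] at hr'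
    simp only [psi_res] at hr'
    exact hr'.symm
  choose m r hr using hclear
  let N : ℕ := (S ×ˢ (Finset.univ : Finset (Fin n))).sup fun p => m p.1 p.2
  refine ⟨(PicF2.zeroScheme _ s) ^ N, RGFlatLib.isEffCartier_pow (fun x => ⟨V x, hxV x, c x, hcnz x, hcI x⟩) N,
    fun U hη d hd k => ?_⟩
  -- local sections
  have hloc : ∀ y : U.1, ∃ (O : X.Opens), y.1 ∈ O ∧ O ≤ U.1 ∧ ∃ e : Γ(X, O),
      ∀ h : genericPoint X' ∈ f ⁻¹ᵁ O, psi f O h e = a k * psi f U.1 hη d := by
    rintro ⟨y, hy⟩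
    obtain ⟨x, hxS, hyx⟩ := Set.mem_iUnion₂.1 (hS (Set.mem_univ y))
    obtain ⟨O, hyO, hOle⟩ := BlowUpLib.exists_affine y (W := U.1 ⊓ (V x).1) ⟨hy, hyx⟩
    have hOU : O.1 ≤ U.1 := hOle.trans inf_le_left
    have hOV : O.1 ≤ (V x).1 := hOle.trans inf_le_right
    have hd' : X.presheaf.map (homOfLE hOU).op d ∈ ((PicF2.zeroScheme _ s) ^ N).ideal O :=
      ((PicF2.zeroScheme _ s) ^ N).ideal_le_comap_ideal (U := O) (V := U) hOU hd
    rw [← ((PicF2.zeroScheme _ s) ^ N).map_ideal (U := O) (V := V x) hOV, Scheme.IdealSheafData.ideal_pow,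
      Pi.pow_apply, hcI, Ideal.span_singleton_pow, Ideal.map_span, Set.image_singleton,
      Ideal.mem_span_singleton'] at hd'
    obtain ⟨t, ht⟩ := hd'
    have hle : m x k ≤ N := Finset.le_sup (f := fun p : X × Fin n => m p.1 p.2) (by simp [hxS] : (x, k) ∈ _)
    refine ⟨O.1, hyO, hOU,
      t * X.presheaf.map (homOfLE hOV).op (r x k * c x ^ (N - m x k)), fun h => ?_⟩
    have ht' := congrArg (psi f O.1 h) ht
    simp only [map_mul, map_pow, psi_res] at ht' ⊢
    erw [psi_res' f hOV h (c x)] at ht'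
    rw [hr, ← ht', mul_assoc (a k), ← pow_add, Nat.add_sub_cancel' hle]
    ring
  choose O hyO hOU e he using hloc
  have hηO : ∀ y, genericPoint X' ∈ f ⁻¹ᵁ O y := fun y => by
    show f (genericPoint X') ∈ O y
    rw [hdom]
    exact ((genericPoint_spec X).mem_open_set_iff (O y).isOpen).mpr ⟨y.1, trivial, hyO y⟩
  obtain ⟨g, hg, -⟩ := X.sheaf.existsUnique_gluing' O U.1 (fun y => homOfLE (hOU y))
    (fun y hy => Opens.mem_iSup.mpr ⟨⟨y, hy⟩, hyO ⟨y, hy⟩⟩) e (fun y y' => by
      refine psi_injective f hinj (O y ⊓ O y') (show genericPoint X' ∈ f ⁻¹ᵁ (O y ⊓ O y') from ⟨hηO y, hηO y'⟩) ?_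
      change psi f _ _ (X.presheaf.map (homOfLE inf_le_left).op (e y)) =
        psi f _ _ (X.presheaf.map (homOfLE inf_le_right).op (e y'))
      rw [psi_res, psi_res, he, he])
  refine ⟨g, ?_⟩
  let y₀ : U.1 := ⟨f (genericPoint X'), hη⟩
  rw [← he y₀ (hηO y₀), ← psi_res f (hOU y₀) (hηO y₀)]
  exact congrArg _ (hg y₀)

end BirBlowLib
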