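import Groth.Agent.BirBlowLib.Frac
import Groth.Agent.BlowUpLib.RegSmooth
import Groth.Agent.RelProjLib.Coords
import Groth.Agent.AffBlowLib.Main

/-!
# Projective birational morphisms are blow-ups
-/

set_option autoImplicit false
set_option linter.style.haveILetI false
set_option backward.isDefEq.respectTransparency false
set_option maxHeartbeats 2000000

universe u

open CategoryTheory CategoryTheory.Limits AlgebraicGeometry TopologicalSpace Opposite
open ChowLib RelProjLib

noncomputable section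

namespace BirBlowLib

/-- Standard charts of a blow-up for a given set of generators over an affine open. -/
theorem exists_chart_of_span {X B : Scheme.{u}} {b : B ⟶ X} {I : X.IdealSheafData} (hb : BlowUp.IsBlowUp b I)
    (V : X.affineOpens) (S : Set Γ(X, V.1)) (hS : Ideal.span S = I.ideal V) (y : B) (hy : b y ∈ V.1) :
    ∃ (a : Γ(X, V.1)) (_ : a ∈ S)
      (c : Spec (CommRingCat.of (BlowUp.affineAlgebra Γ(X, V.1) (I.ideal V) a)) ⟶ B)
      (_ : IsOpenImmersion c), y ∈ Set.range c ∧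
        c ≫ b = Spec.map (CommRingCat.ofHom (algebraMap Γ(X, V.1) _)) ≫ V.2.fromSpec := by
  have hP : BlowUp.IsBlowUp (pullback.fst V.2.fromSpec b) (BlowUpLib.specIdeal (A := Γ(X, V.1)) (I.ideal V)) :=
    BlowUpLib.comap_fromSpec I V ▸ BlowUpLib.isBlowUp_of_isPullback (IsPullback.of_hasPullback V.2.fromSpec b).flip hb
  obtain ⟨z, hz⟩ : b y ∈ Set.range V.2.fromSpec := V.2.range_fromSpec.symm ▸ hy
  obtain ⟨w, -, hw⟩ := Scheme.Pullback.exists_preimage_pullback (f := V.2.fromSpec) (g := b) z y hz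
  obtain ⟨a, ha, c, _, ⟨q, hq⟩, hc⟩ := BlowUpLib.exists_chart_spec_of_span (I.ideal V) S hS hP w
  refine ⟨a, ha, c ≫ pullback.snd V.2.fromSpec b, inferInstance, ⟨q, ?_⟩, ?_⟩
  · rw [Scheme.Hom.comp_apply, hq, hw]
  · rw [Category.assoc, ← pullback.condition, reassoc_of% hc]

theorem germ_coord_res {X : Scheme.{u}} [IrreducibleSpace X] {n : ℕ} (q : X ⟶ PZ.{u} n) (j k : Fin (n + 1))
    {W : X.Opens} (hW : W ≤ q ⁻¹ᵁ Dplus j) (hη : genericPoint X ∈ W) :
    X.presheaf.germ W (genericPoint X) hη (coord q j k hW) =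
      X.presheaf.germ (q ⁻¹ᵁ Dplus j) (genericPoint X) (hW hη) (coord q j k le_rfl) := by
  rw [← coord_res q j k le_rfl hW, TopCat.Presheaf.germ_res_apply]

theorem exists_Dplus {X : Scheme.{u}} {n : ℕ} (q : X ⟶ PZ.{u} n) (x : X) : ∃ j, x ∈ q ⁻¹ᵁ Dplus j := by
  obtain ⟨j, hj⟩ := Opens.mem_iSup.1 (show q x ∈ ⨆ j, Dplus.{u} (n := n) j by rw [iSup_Dplus]; trivial)
  exact ⟨j, hj⟩

theorem exists_isBlowUp {X' X : Scheme.{u}} [IsIntegral X'] [IsIntegral X] [IsNoetherian X]
    {M : X.Modules} (hM : CohB1.IsAmple M) (f : X' ⟶ X) (N : ℕ) (i : X' ⟶ CohB1.ProjSpaceOver N X)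
    [IsClosedImmersion i] (hi : i ≫ CohB1.ProjSpaceOver.toBase N X = f)
    (hbir : ∃ U : X.Opens, (U : Set X).Nonempty ∧ IsIso (f ∣_ U)) :
    ∃ I : X.IdealSheafData, BlowUp.IsBlowUp f I := by
  classical
  obtain ⟨U, hUne, hUiso⟩ := hbir
  let q : X' ⟶ PZ.{u} N := i ≫ toPZ N X
  have hq : i ≫ toPZ N X = q := rfl
  haveI : IsProper (CohB1.ProjSpaceOver.toBase N X) := ChowLib.isProper_toBase N X
  haveI : IsProper f := by rw [← hi]; infer_instance
  -- the generic points
  let η : X' := genericPoint X'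
  have hηU : η ∈ f ⁻¹ᵁ U := by
    obtain ⟨x, hx⟩ := hUne
    obtain ⟨z, -⟩ := (f ∣_ U).surjective ⟨x, hx⟩
    exact mem_of_nonempty z.2
  have hdom : f η = genericPoint X := by
    refine IsGenericPoint.eq (S := Set.univ) ?_ (genericPoint_spec X)
    refine Set.eq_univ_of_univ_subset ?_
    have hd : closure (U : Set X) = Set.univ := (U.isOpen.dense hUne).closure_eq
    rw [← hd]
    refine closure_minimal (fun x hx => ?_) isClosed_closure
    obtain ⟨z, hz⟩ := (f ∣_ U).surjective ⟨x, hx⟩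
    have hzx : f z.1 = x := by
      rw [← morphismRestrict_base_coe f U z, hz]
    rw [← hzx]
    exact ((genericPoint_spec X').specializes trivial).map f.continuous |>.mem_closure
  have hinj : ∀ V : X.Opens, Function.Injective (f.app V).hom := by
    refine BiratLib.app_injective f hdom ?_
    have hF : IsField (X.presheaf.stalk (f η)) := by rw [hdom]; exact Field.toIsField X.functionField
    letI := hF.toField
    exact RingHom.injective _
  -- coordinates at the generic point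
  obtain ⟨j₀, hj₀⟩ := exists_Dplus q η
  let w : ∀ j : Fin (N + 1), η ∈ q ⁻¹ᵁ Dplus j → Fin (N + 1) → X'.functionField := fun j hj k =>
    X'.presheaf.germ (q ⁻¹ᵁ Dplus j) η hj (coord q j k le_rfl)
  let a : Fin (N + 1) → X'.functionField := w j₀ hj₀
  have hcocycle : ∀ j (hj : η ∈ q ⁻¹ᵁ Dplus j) l, a l = w j hj l * a j := by
    intro j hj l
    have hO : η ∈ q ⁻¹ᵁ Dplus j₀ ⊓ q ⁻¹ᵁ Dplus j := ⟨hj₀, hj⟩
    have h := congrArg (X'.presheaf.germ _ η hO) (coord_change q j₀ j l inf_le_left inf_le_right)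
    rw [map_mul, germ_coord_res q j₀ l inf_le_left hO, germ_coord_res q j l inf_le_right hO,
      germ_coord_res q j₀ j inf_le_left hO] at h
    exact h
  have haj : ∀ j, η ∈ q ⁻¹ᵁ Dplus j → a j ≠ 0 := by
    intro j hj
    have h := hcocycle j hj j₀
    have h1 : a j₀ = 1 := by
      show X'.presheaf.germ _ η hj₀ (coord q j₀ j₀ le_rfl) = 1
      rw [coord_self, map_one]
    intro h0
    rw [h0, mul_zero, h1] at h
    exact one_ne_zero h
  have hmem : ∀ l, a l ≠ 0 → η ∈ q ⁻¹ᵁ Dplus l := by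
    intro l hl
    have h : η ∈ X'.basicOpen (coord q j₀ l (W := q ⁻¹ᵁ Dplus j₀) le_rfl) :=
      (X'.mem_basicOpen _ η hj₀).2 (isUnit_iff_ne_zero.2 hl)
    rw [basicOpen_coord] at h
    exact h.2
  -- the open where the coordinates descend
  let W : X.Opens := U ⊓ ⟨(f '' ((q ⁻¹ᵁ Dplus j₀ : X'.Opens) : Set X')ᶜ)ᶜ,
    (f.isClosedMap _ (q ⁻¹ᵁ Dplus j₀).isOpen.isClosed_compl).isOpen_compl⟩
  have hWle : f ⁻¹ᵁ W ≤ q ⁻¹ᵁ Dplus j₀ := fun x hx => by_contra fun hn => hx.2 ⟨x, hn, rfl⟩
  have hηW : η ∈ f ⁻¹ᵁ W := by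
    refine ⟨hηU, ?_⟩
    rintro ⟨x, hx, hxe⟩
    have hxU : x ∈ f ⁻¹ᵁ U := by show f x ∈ U; rw [hxe]; exact hηU
    have he : (f ∣_ U) ⟨x, hxU⟩ = (f ∣_ U) ⟨η, hηU⟩ := Subtype.ext (by
      rw [morphismRestrict_base_coe, morphismRestrict_base_coe]; exact hxe)
    have : x = η := congrArg Subtype.val ((f ∣_ U).isOpenEmbedding.injective he)
    exact hx (this ▸ hj₀)
  haveI hWiso : IsIso (f ∣_ W) :=
    BiratLib.restrict_of_le f (P := MorphismProperty.isomorphisms Scheme.{u}) inf_le_left hUiso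
  have hsurj : Function.Surjective (f.app W).hom := by
    have h1 : IsIso ((f ∣_ W).app ⊤) := inferInstance
    have h2 : Function.Bijective (f.app (W.ι ''ᵁ ⊤)) := by
      rw [morphismRestrict_app] at h1
      haveI := h1
      haveI : IsIso (f.app (W.ι ''ᵁ ⊤)) :=
        IsIso.of_isIso_comp_right (f.app (W.ι ''ᵁ ⊤)) (X'.presheaf.map (eqToHom
          (image_morphismRestrict_preimage f W ⊤)).op)
      exact ConcreteCategory.bijective_of_isIso _
    rw [W.ι_image_top] at h2
    exact h2.2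
  choose α hα using fun k => hsurj (coord q j₀ k hWle)
  have hαa : ∀ k, psi f W hηW (α k) = a k := fun k => by
    show X'.presheaf.germ (f ⁻¹ᵁ W) η hηW (f.app W (α k)) = _
    rw [show f.app W (α k) = coord q j₀ k hWle from hα k]
    exact germ_coord_res q j₀ k hWle hηW
  obtain ⟨D, hD, hden⟩ := exists_den (f := f) (a := a) hM hinj hdom W hηW α hαa
  let I := fracIdeal hinj hdom hden
  refine ⟨I, ?_⟩
  -- principal pieces of the denominators
  have hpiece : ∀ x : X, ∃ (V : X.affineOpens) (d : Γ(X, V.1)) (hV : η ∈ f ⁻¹ᵁ V.1) (c : Fin (N + 1) → Γ(X, V.1)),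
      x ∈ V.1 ∧ psi f V.1 hV d ≠ 0 ∧ (∀ k, psi f V.1 hV (c k) = a k * psi f V.1 hV d) ∧
      I.ideal V = Ideal.span (Set.range c) := by
    intro x
    obtain ⟨V, hxV, d, hd, hDV⟩ := hD x
    have hηV : genericPoint X ∈ V.1 := ((genericPoint_spec X).mem_open_set_iff V.1.isOpen).mpr ⟨x, trivial, hxV⟩
    have hV : η ∈ f ⁻¹ᵁ V.1 := by show f η ∈ V.1; rw [hdom]; exact hηV
    haveI : Nonempty V.1 := ⟨⟨_, hηV⟩⟩
    obtain ⟨c, hc, hI⟩ := fracIdeal_eq_span hinj hdom hden V hV d hDV
    refine ⟨V, d, hV, c, hxV, fun h0 => ?_, hc, hI⟩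
    exact nonZeroDivisors.ne_zero hd (psi_injective f hinj _ hV (h0.trans (map_zero _).symm))
  have hrel : ∀ (V : X.affineOpens) (d : Γ(X, V.1)) (hV : η ∈ f ⁻¹ᵁ V.1) (c : Fin (N + 1) → Γ(X, V.1))
      (_ : ∀ k, psi f V.1 hV (c k) = a k * psi f V.1 hV d) (j k : Fin (N + 1))
      (O : X'.Opens) (hOj : O ≤ q ⁻¹ᵁ Dplus j) (hOV : O ≤ f ⁻¹ᵁ V.1) (_ : η ∈ O),
      f.appLE V.1 O hOV (c k) = coord q j k hOj * f.appLE V.1 O hOV (c j) := by
    intro V d hV c hc j k O hOj hOV hO
    refine germ_injective_of_isIntegral X' η hO ?_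
    rw [map_mul, germ_coord_res q j k hOj hO, germ_appLE f V.1 hOV hO, germ_appLE f V.1 hOV hO, hc, hc,
      hcocycle j (hOj hO) k]
    exact mul_assoc _ _ _
  -- the exceptional ideal is effective Cartier
  have hcart : BlowUp.IsEffCartierIdeal (I.comap f) := by
    intro x
    obtain ⟨j, hj⟩ := exists_Dplus q x
    obtain ⟨V, d, hV, c, hxV, hd0, hc, hI⟩ := hpiece (f x)
    let O := piece f q j V.1
    have hxO : x ∈ O := ⟨hj, hxV⟩
    have hO : η ∈ O := mem_of_nonempty hxO
    haveI : Nonempty O := ⟨⟨x, hxO⟩⟩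
    refine ⟨⟨O, isAffineOpen_piece f q i hi hq j V.2⟩, hxO, f.appLE V.1 O inf_le_right (c j),
      mem_nonZeroDivisors_of_ne_zero fun h0 => ?_, ?_⟩
    · have h1 := congrArg (X'.presheaf.germ O η hO) h0
      have h2 : psi f V.1 hV (c j) = 0 :=
        (germ_appLE f V.1 inf_le_right hO (c j)).symm.trans (h1.trans (map_zero _))
      rw [hc] at h2
      exact mul_ne_zero (haj j hO.1) hd0 h2
    · rw [Groth.Agent.S4666.ideal_comap_eq I f V ⟨O, isAffineOpen_piece f q i hi hq j V.2⟩ inf_le_right, hI,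
        Ideal.map_span]
      refine le_antisymm (Ideal.span_le.2 ?_) (Ideal.span_mono ?_)
      · rintro _ ⟨_, ⟨k, rfl⟩, rfl⟩
        rw [SetLike.mem_coe, Ideal.mem_span_singleton']
        exact ⟨coord q j k (piece_le f q j V.1), (hrel V d hV c hc j k O _ inf_le_right hO).symm⟩
      · rintro _ rfl
        exact ⟨c j, ⟨j, rfl⟩, rfl⟩
  -- the comparison map to the blow-up
  obtain ⟨B, b, hb⟩ := BlowUpLib.exists_isBlowUp X I
  obtain ⟨h, hh, -⟩ := hb.2 X' f hcart
  suffices hiso : IsIso h by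
    have := AffBlowLib.isBlowUp_iso_comp hb (asIso h)
    rwa [asIso_hom, hh] at this
  refine (IsZariskiLocalAtTarget.iff_of_iSup_eq_top (P := MorphismProperty.isomorphisms Scheme.{u})
    (fun R : {R : B.Opens // IsIso (h ∣_ R)} => R.1) ?_).2 fun R => R.2
  refine top_le_iff.1 fun y _ => ?_
  obtain ⟨V, d, hV, c, hyV, hd0, hc, hI⟩ := hpiece (b y)
  obtain ⟨cl, ⟨⟨l, rfl⟩, hl0⟩, χ, hχ, hyχ, hχb⟩ := exists_chart_of_span hb V (Set.range c \ {0})
    (by rw [Ideal.span_sdiff_singleton_zero, hI]) y hyV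
  haveI := hχ
  refine Opens.mem_iSup.2 ⟨⟨χ.opensRange, ?_⟩, hyχ⟩
  haveI : Nonempty V.1 := ⟨⟨_, hV⟩⟩
  have hψinj : Function.Injective (psi f V.1 hV) := psi_injective f hinj _ hV
  have hcl : psi f V.1 hV (c l) ≠ 0 := fun h0 => hl0 (hψinj (h0.trans (map_zero _).symm))
  have hal : a l ≠ 0 := fun h0 => hcl (by rw [hc, h0, zero_mul])
  have hηl : η ∈ q ⁻¹ᵁ Dplus l := hmem l hal
  let A := BlowUp.affineAlgebra Γ(X, V.1) (I.ideal V) (c l)
  have hu : IsUnit (psi f V.1 hV (c l)) := isUnit_iff_ne_zero.2 hcl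
  let ρ : Localization.Away (c l) →+* X'.functionField :=
    IsLocalization.Away.lift (S := Localization.Away (c l)) (c l) hu
  have hρalg : ∀ r, ρ (algebraMap _ _ r) = psi f V.1 hV r := IsLocalization.Away.lift_eq (c l) hu
  have hρinj : Function.Injective ρ := by
    refine (IsLocalization.lift_injective_iff _).2 fun r s => ⟨fun e => ?_, fun e => ?_⟩
    · exact congrArg (psi f V.1 hV) ((IsLocalization.injective (Localization.Away (c l))
        (powers_le_nonZeroDivisors_of_noZeroDivisors (M₀ := Γ(X, V.1)) (show c l ≠ 0 from fun h0 => hcl (by rw [h0, map_zero])))) e)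
    · rw [hψinj e]
  let ρA : A →+* X'.functionField := ρ.comp A.val.toRingHom
  let O := piece f q l V.1
  have hO : η ∈ O := ⟨hηl, hV⟩
  haveI : Nonempty O := ⟨⟨η, hO⟩⟩
  let γ : Γ(X', O) →+* X'.functionField := (X'.presheaf.germ O η hO).hom
  have hγinj : Function.Injective γ := germ_injective_of_isIntegral X' η hO
  have hγφ : ∀ r, γ (f.appLE V.1 O inf_le_right r) = psi f V.1 hV r := germ_appLE f V.1 inf_le_right hO
  have hfrac : ∀ x (hx : x ∈ I.ideal V), ρ (IsLocalization.mk' (Localization.Away (c l)) x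
      ⟨c l, Submonoid.mem_powers (c l)⟩) * psi f V.1 hV (c l) = psi f V.1 hV x := by
    intro x _
    rw [← hρalg (c l), ← map_mul]
    exact (congrArg ρ (IsLocalization.mk'_spec (Localization.Away (c l)) x
      (⟨c l, Submonoid.mem_powers (c l)⟩ : Submonoid.powers (c l)))).trans (hρalg x)
  have hrange : ρA.range = γ.range := by
    refine le_antisymm ?_ ?_
    · rintro _ ⟨⟨z, hz⟩, rfl⟩
      induction hz using Algebra.adjoin_induction with
      | mem z hz =>
        obtain ⟨x, hx, rfl⟩ := hz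
        obtain ⟨r, hr⟩ := Ideal.mem_span_range_iff_exists_fun.1 (hI ▸ hx : x ∈ _)
        refine ⟨∑ k, f.appLE V.1 O inf_le_right (r k) * coord q l k (piece_le f q l V.1),
          mul_right_cancel₀ hcl ((?_ : _ = psi f V.1 hV x).trans (hfrac x hx).symm)⟩
        rw [map_sum, Finset.sum_mul, ← hr, map_sum]
        refine Finset.sum_congr rfl fun k _ => ?_
        rw [map_mul, map_mul, hγφ, mul_assoc, hc k, hc l, hcocycle l hηl k]
        rw [show γ (coord q l k (piece_le f q l V.1)) = w l hηl k from germ_coord_res q l k _ hO, mul_assoc]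
      | algebraMap r => exact ⟨f.appLE V.1 O inf_le_right r, (hγφ r).trans (hρalg r).symm⟩
      | add x y hx hy ihx ihy =>
        have := γ.range.add_mem ihx ihy
        exact (map_add ρ x y).symm ▸ this
      | mul x y hx hy ihx ihy =>
        have := γ.range.mul_mem ihx ihy
        exact (map_mul ρ x y).symm ▸ this
    · rintro _ ⟨s, rfl⟩
      obtain ⟨p, rfl⟩ := evalA_surjective f q i hi hq l V.2 s
      induction p using MvPolynomial.induction_on with
      | C r =>
        refine ⟨algebraMap Γ(X, V.1) A r, ?_⟩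
        rw [evalA, MvPolynomial.eval₂Hom_C]
        exact (hρalg r).trans (hγφ r).symm
      | add p p' hp hp' => rw [map_add, map_add]; exact ρA.range.add_mem hp hp'
      | mul_X p k hp =>
        rw [map_mul, map_mul]
        refine ρA.range.mul_mem hp ?_
        have hk : c k ∈ I.ideal V := hI ▸ Ideal.subset_span ⟨k, rfl⟩
        refine ⟨⟨IsLocalization.mk' (Localization.Away (c l)) (c k) ⟨c l, Submonoid.mem_powers (c l)⟩,
          Algebra.subset_adjoin ⟨c k, hk, rfl⟩⟩, mul_right_cancel₀ hcl ((hfrac (c k) hk).trans ?_)⟩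
        rw [evalA, MvPolynomial.eval₂Hom_X',
          show γ (coord q l k (piece_le f q l V.1)) = w l hηl k from germ_coord_res q l k _ hO,
          hc k, hc l, hcocycle l hηl k, mul_assoc]
  obtain ⟨θ, hθ⟩ : ∃ θ : A ≃+* Γ(X', O), ∀ z, γ (θ z) = ρA z := by
    let eA : A ≃+* ρA.range := RingEquiv.ofBijective ρA.rangeRestrict
      ⟨fun z z' e => Subtype.ext (hρinj (congrArg Subtype.val e)), ρA.rangeRestrict_surjective⟩
    let eO : Γ(X', O) ≃+* γ.range := RingEquiv.ofBijective γ.rangeRestrict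
      ⟨fun z z' e => hγinj (congrArg Subtype.val e), γ.rangeRestrict_surjective⟩
    refine ⟨eA.trans ((RingEquiv.subringCongr hrange).trans eO.symm), fun z => ?_⟩
    exact congrArg Subtype.val (eO.apply_symm_apply (RingEquiv.subringCongr hrange (eA z)))
  have hθalg : (θ.toRingHom.comp (algebraMap Γ(X, V.1) A)) = (f.appLE V.1 O inf_le_right).hom :=
    RingHom.ext fun r => hγinj ((hθ _).trans ((hρalg r).trans (hγφ r).symm))
  let t : O.toScheme ⟶ Spec (CommRingCat.of A) :=
    (isAffineOpen_piece f q i hi hq l V.2).isoSpec.hom ≫ Spec.map θ.toCommRingCatIso.hom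
  haveI : IsIso t := inferInstance
  have htb : (t ≫ χ) ≫ b = O.ι ≫ f := by
    simp only [t]
    rw [Category.assoc, hχb, IsAffineOpen.isoSpec_hom, Category.assoc, ← Category.assoc (Spec.map _) (Spec.map _),
      ← Spec.map_comp,
      show CommRingCat.ofHom (algebraMap Γ(X, V.1) A) ≫ θ.toCommRingCatIso.hom = f.appLE V.1 O inf_le_right from
        CommRingCat.hom_ext hθalg,
      Scheme.Opens.toSpecΓ_SpecMap_appLE_assoc, IsAffineOpen.toSpecΓ_fromSpec, Scheme.Hom.resLE_comp_ι]
  have ht : t ≫ χ = O.ι ≫ h :=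
    BlowUpLib.hom_ext hb (O.ι ≫ f)
      (by rw [Scheme.IdealSheafData.comap_comp]; exact BlowUpLib.isEffCartier_comap_of_flat _ hcart)
      htb (by rw [Category.assoc, hh])
  have hpre : h ⁻¹ᵁ χ.opensRange = O := by
    refine le_antisymm (fun x hx => ?_) fun x hx => ?_
    · have hxV : f x ∈ V.1 := by
        obtain ⟨z, hz⟩ := hx
        rw [← hh, Scheme.Hom.comp_apply, ← hz, ← Scheme.Hom.comp_apply, hχb]
        exact V.2.range_fromSpec.subset ⟨_, rfl⟩
      obtain ⟨j, hj⟩ := exists_Dplus q x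
      let O' : X'.Opens := piece f q j V.1 ⊓ h ⁻¹ᵁ χ.opensRange
      have hxO' : x ∈ O' := ⟨⟨hj, hxV⟩, hx⟩
      have hO' : η ∈ O' := mem_of_nonempty hxO'
      have hlej : O' ≤ q ⁻¹ᵁ Dplus j := inf_le_left.trans inf_le_left
      have hleV : O' ≤ f ⁻¹ᵁ V.1 := inf_le_left.trans inf_le_right
      obtain ⟨σ, hσ⟩ := ChowLib.toSpecOf_surjective (IsOpenImmersion.lift χ (O'.ι ≫ h) (by
        rintro _ ⟨z, rfl⟩; exact z.2.2))
      have hσalg : O'.topIso.hom.hom.comp (σ.comp (algebraMap Γ(X, V.1) A)) = (f.appLE V.1 O' hleV).hom := by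
        have e1 : ChowLib.toSpecOf (σ.comp (algebraMap Γ(X, V.1) A)) =
            ChowLib.toSpecOf (O'.topIso.inv.hom.comp (f.appLE V.1 O' hleV).hom) := by
          rw [← cancel_mono V.2.fromSpec]
          calc ChowLib.toSpecOf (σ.comp (algebraMap Γ(X, V.1) A)) ≫ V.2.fromSpec
              = (ChowLib.toSpecOf σ ≫ χ) ≫ b := by
                rw [Category.assoc, hχb]
                simp only [ChowLib.toSpecOf, Category.assoc, ← Spec.map_comp_assoc]
                rfl
            _ = O'.ι ≫ f := by rw [hσ, IsOpenImmersion.lift_fac, Category.assoc, hh]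
            _ = _ := by
                rw [show ChowLib.toSpecOf (O'.topIso.inv.hom.comp (f.appLE V.1 O' hleV).hom) =
                  O'.toSpecΓ ≫ Spec.map (f.appLE V.1 O' hleV) by
                    simp only [ChowLib.toSpecOf, Scheme.Opens.toSpecΓ, Category.assoc, ← Spec.map_comp]; rfl,
                  Category.assoc, Scheme.Opens.toSpecΓ_SpecMap_appLE_assoc, IsAffineOpen.toSpecΓ_fromSpec,
                  Scheme.Hom.resLE_comp_ι]
        have e2 := ChowLib.toSpecOf_injective e1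
        refine RingHom.ext fun r => ?_
        show O'.topIso.hom ((σ.comp (algebraMap Γ(X, V.1) A)) r) = _
        rw [e2]
        exact Iso.inv_hom_id_apply O'.topIso _
      have hk : c j ∈ I.ideal V := hI ▸ Ideal.subset_span ⟨j, rfl⟩
      let zA : A := ⟨IsLocalization.mk' (Localization.Away (c l)) (c j) ⟨c l, Submonoid.mem_powers (c l)⟩,
        Algebra.subset_adjoin ⟨c j, hk, rfl⟩⟩
      have hz : zA * algebraMap _ A (c l) = algebraMap _ A (c j) :=
        Subtype.ext (IsLocalization.mk'_spec (Localization.Away (c l)) (c j) ⟨c l, Submonoid.mem_powers (c l)⟩)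
      have hz' := congrArg (O'.topIso.hom.hom.comp σ) hz
      rw [map_mul, ← RingHom.comp_apply, ← RingHom.comp_apply, RingHom.comp_assoc, hσalg] at hz'
      have hg := congrArg (X'.presheaf.germ O' η hO') hz'
      rw [map_mul, germ_appLE f V.1 hleV hO', germ_appLE f V.1 hleV hO', hc l, hc j,
        hcocycle j (hlej hO') l,
        show w j (hlej hO') l = X'.presheaf.germ O' η hO' (coord q j l hlej) from
          (germ_coord_res q j l hlej hO').symm] at hg
      have h1 : (O'.topIso.hom.hom.comp σ) zA * coord q j l hlej = 1 := by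
        refine germ_injective_of_isIntegral X' η hO' ?_
        rw [map_mul, map_one]
        refine mul_right_cancel₀ (mul_ne_zero (haj j (hlej hO')) hd0) ?_
        rw [one_mul]
        refine Eq.trans ?_ hg
        ring
      have hxb : x ∈ X'.basicOpen (coord q j l hlej) := by
        rw [X'.basicOpen_of_isUnit (isUnit_of_mul_isUnit_right (h1.symm ▸ isUnit_one))]
        exact hxO'
      rw [basicOpen_coord] at hxb
      exact ⟨hxb.2, hxV⟩
    · refine ⟨t ⟨x, hx⟩, ?_⟩
      rw [← Scheme.Hom.comp_apply, ht]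
      rfl
  have hfac : h ∣_ χ.opensRange = (X'.isoOfEq hpre).hom ≫ t ≫ χ.isoOpensRange.hom := by
    rw [← cancel_mono χ.opensRange.ι, morphismRestrict_ι, Category.assoc, Category.assoc,
      Scheme.Hom.isoOpensRange_hom_ι, ht, Scheme.isoOfEq_hom_ι_assoc]
  rw [hfac]
  infer_instance

end BirBlowLib
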