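import Groth.Agent.BirBlowLib.Main
import Groth.Agent.LichtLib.ProjOver
import Groth.Agent.SurfNumLib.Basic
import Groth.Agent.PurBirLib.Apps
import Mathlib.AlgebraicGeometry.ZariskisMainTheorem

/-!
# Birational morphisms between projective varieties
-/

set_option autoImplicit false
set_option linter.style.haveILetI false
set_option backward.isDefEq.respectTransparency false
set_option maxHeartbeats 1000000

universe u

open CategoryTheory CategoryTheory.Limits AlgebraicGeometry TopologicalSpace Opposite

noncomputable section

namespace BirBlowLib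

/-- A proper birational morphism of integral schemes is an isomorphism over a nonempty open. -/
theorem exists_isIso_of_proper_birational {X Y : Scheme.{u}} [IsIntegral X] [IsIntegral Y] [IsLocallyNoetherian Y]
    (f : X ⟶ Y) [IsProper f] (hgen : f.base (genericPoint X) = genericPoint Y)
    (hbir : IsIso (f.stalkMap (genericPoint X))) :
    ∃ U : Y.Opens, (U : Set Y).Nonempty ∧ IsIso (f ∣_ U) := by
  have hfib : f ⁻¹' {genericPoint Y} ⊆ {genericPoint X} := by
    intro x (hx : f x = genericPoint Y)
    have hsp : genericPoint X ⤳ x := (genericPoint_spec X).specializes trivial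
    let sp := X.presheaf.stalkSpecializes hsp
    have hinj : Function.Injective sp.hom := by
      refine (injective_iff_map_eq_zero sp.hom).2 fun z hz => ?_
      obtain ⟨V, hxV, s, rfl⟩ := X.presheaf.exists_germ_eq z
      have hz' : X.presheaf.germ V (genericPoint X) (hsp.mem_open V.isOpen hxV) s = 0 := by
        rw [← X.presheaf.germ_stalkSpecializes hxV hsp]
        exact hz
      rw [show s = 0 from germ_injective_of_isIntegral X (genericPoint X) (hsp.mem_open V.isOpen hxV)
        (hz'.trans (map_zero _).symm), map_zero]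
    have hsurj : Function.Surjective sp.hom := by
      intro z
      obtain ⟨c, hc⟩ := (ConcreteCategory.bijective_of_isIso (f.stalkMap (genericPoint X))).2 z
      have heq : f x ⤳ f (genericPoint X) := specializes_of_eq (hx.trans hgen.symm)
      let c' := Y.presheaf.stalkSpecializes heq c
      refine ⟨f.stalkMap x c', ?_⟩
      change X.presheaf.stalkSpecializes hsp (f.stalkMap x c') = z
      rw [← Scheme.Hom.stalkSpecializes_stalkMap_apply, ← hc]
      congr 1
      have h3 : Y.presheaf.stalkSpecializes heq ≫
          Y.presheaf.stalkSpecializes (f.base.hom.map_specializes hsp) = 𝟙 _ := by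
        rw [TopCat.Presheaf.stalkSpecializes_comp, TopCat.Presheaf.stalkSpecializes_refl]
      exact congrArg (fun φ => φ.hom c) h3
    have hF : IsField (X.presheaf.stalk x) :=
      MulEquiv.isField (Field.toIsField X.functionField) (RingEquiv.ofBijective sp.hom ⟨hinj, hsurj⟩).toMulEquiv
    letI := hF.toField
    haveI : Subsingleton (Spec (X.presheaf.stalk x)) := inferInstanceAs (Subsingleton (PrimeSpectrum (X.presheaf.stalk x)))
    obtain ⟨p, hp⟩ : genericPoint X ∈ Set.range (X.fromSpecStalk x) := by
      rw [Scheme.range_fromSpecStalk]; exact hsp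
    show x = genericPoint X
    rw [← hp, Subsingleton.elim p (IsLocalRing.closedPoint _), Scheme.fromSpecStalk_closedPoint]
  obtain ⟨V, hηV, hV⟩ := exists_isFinite_morphismRestrict_of_finite_preimage_singleton f (genericPoint Y)
    ((Set.finite_singleton _).subset hfib)
  haveI : IsField (Y.presheaf.stalk (genericPoint Y)) := Field.toIsField Y.functionField
  obtain ⟨U, hηU, hU⟩ := BiratLib.exists_isIso_near' f hV hgen hbir (genericPoint Y) hηV
    (letI : Field (Y.presheaf.stalk (genericPoint Y)) := (Field.toIsField Y.functionField).toField; inferInstance)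
  exact ⟨U, ⟨_, hηU⟩, hU⟩

/-- Birational morphisms between integral projective varieties are blow-ups. -/
theorem exists_isBlowUp_of_projective {k : Type u} [Field k] {X Y : Scheme.{u}} [IsIntegral X] [IsIntegral Y]
    (a b : ℕ) (iX : X ⟶ CohB1.ProjSpace a k) [IsClosedImmersion iX] (iY : Y ⟶ CohB1.ProjSpace b k)
    [IsClosedImmersion iY] (f : X ⟶ Y)
    (hk : f ≫ iY ≫ CohB1.ProjSpace.toSpec b k = iX ≫ CohB1.ProjSpace.toSpec a k)
    (hgen : f.base (genericPoint X) = genericPoint Y)
    (hbir : Function.Bijective (f.residueFieldMap (genericPoint X)).hom) :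
    ∃ I : Y.IdealSheafData, BlowUp.IsBlowUp f I := by
  let sY : Y ⟶ Spec (CommRingCat.of k) := iY ≫ CohB1.ProjSpace.toSpec b k
  haveI := ProjDegLib.toSpec_isProper k a
  haveI := ProjDegLib.toSpec_isProper k b
  haveI : IsProper sY := inferInstanceAs (IsProper (_ ≫ _))
  haveI : IsLocallyNoetherian Y := LocallyOfFiniteType.isLocallyNoetherian sY
  haveI : CompactSpace Y := QuasiCompact.compactSpace_of_compactSpace sY
  haveI : IsNoetherian Y := {}
  obtain ⟨e, he⟩ := LichtLib.exists_iso_over a k
  let i : X ⟶ CohB1.ProjSpaceOver a Y :=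
    pullback.lift (iX ≫ e.hom ≫ ChowLib.toPZ a _) f (specULiftZIsTerminal.hom_ext _ _)
  have hi : i ≫ CohB1.ProjSpaceOver.toBase a Y = f := pullback.lift_snd _ _ _
  let p : CohB1.ProjSpaceOver a Y ⟶ CohB1.ProjSpaceOver a (Spec (CommRingCat.of k)) :=
    pullback.lift (ChowLib.toPZ a Y) (CohB1.ProjSpaceOver.toBase a Y ≫ sY) (specULiftZIsTerminal.hom_ext _ _)
  haveI : IsProper (CohB1.ProjSpaceOver.toBase a Y) := ChowLib.isProper_toBase a Y
  haveI : IsSeparated (p ≫ CohB1.ProjSpaceOver.toBase a (Spec (CommRingCat.of k))) := by
    rw [show p ≫ CohB1.ProjSpaceOver.toBase a (Spec (CommRingCat.of k)) = CohB1.ProjSpaceOver.toBase a Y ≫ sY from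
      pullback.lift_snd _ _ _]
    infer_instance
  haveI : IsSeparated p := IsSeparated.of_comp p (CohB1.ProjSpaceOver.toBase a (Spec (CommRingCat.of k)))
  have hip : i ≫ p = iX ≫ e.hom := by
    apply pullback.hom_ext
    · simp only [i, p, Category.assoc]
      erw [pullback.lift_fst, pullback.lift_fst]
      rfl
    · simp only [Category.assoc]
      erw [pullback.lift_snd, pullback.lift_snd_assoc, he]
      exact hk
  haveI : IsClosedImmersion (i ≫ p) := by rw [hip]; infer_instance
  haveI : IsClosedImmersion i := IsClosedImmersion.of_comp i p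
  haveI : IsProper f := by rw [← hi]; infer_instance
  letI : Y.Over (Spec (CommRingCat.of k)) := ⟨sY⟩
  exact exists_isBlowUp (SurfNumLib.isAmple_embedding iY) f a i hi
    (exists_isIso_of_proper_birational f hgen (PurBirLib.bir_of_residue f hgen hbir).2)

end BirBlowLib
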